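import Groth.Agent.CotT43.Rigid
import Mathlib

/-!
A flat family with rigid special fibre is trivial modulo every power of the uniformiser.
-/

set_option autoImplicit false

universe u

open TensorProduct MvPolynomial

namespace Groth.Agent.CotT43

variable {k A B B₀ : Type u} [Field k] [CommRing A] [Algebra k A] [CommRing B] [Algebra A B] [Algebra k B]
  [IsScalarTower k A B] [CommRing B₀] [Algebra k B₀]

/-- Reduction `A ⊗ B₀ → B₀`. -/
noncomputable def red (ρ : A →ₐ[k] k) : A ⊗[k] B₀ →ₐ[k] B₀ :=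
  Algebra.TensorProduct.lift ((Algebra.ofId k B₀).comp ρ) (AlgHom.id k B₀) fun _ _ => Commute.all _ _

@[simp] theorem red_tmul (ρ : A →ₐ[k] k) (a : A) (b : B₀) : red ρ (a ⊗ₜ b) = algebraMap k B₀ (ρ a) * b := by
  simp [red]

variable {t : A} (ρ : A →ₐ[k] k) (hρ : ∀ a, ρ a = 0 ↔ a ∈ Ideal.span {t})

include hρ in
theorem rho_t : ρ t = 0 := (hρ t).2 (Ideal.mem_span_singleton_self t)

include hρ in
theorem sub_red_mem (z : A ⊗[k] B₀) :
    z - (1 : A) ⊗ₜ red ρ z ∈ Ideal.span {algebraMap A (A ⊗[k] B₀) t} := by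
  induction z with
  | zero => simp
  | add y z hy hz => rw [map_add, tmul_add, add_sub_add_comm]; exact add_mem hy hz
  | tmul a b =>
    obtain ⟨c, hc⟩ := Ideal.mem_span_singleton'.1 ((hρ (a - algebraMap k A (ρ a))).1 (by simp))
    refine Ideal.mem_span_singleton'.2 ⟨c ⊗ₜ b, ?_⟩
    rw [red_tmul, Algebra.TensorProduct.algebraMap_apply, Algebra.TensorProduct.tmul_mul_tmul,
      Algebra.algebraMap_self, RingHom.id_apply, mul_one, hc, sub_tmul, ← Algebra.smul_def, tmul_smul,
      smul_tmul', Algebra.algebraMap_eq_smul_one]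

include hρ in
theorem mem_span_iff_red (z : A ⊗[k] B₀) :
    z ∈ Ideal.span {algebraMap A (A ⊗[k] B₀) t} ↔ red ρ z = 0 := by
  refine ⟨fun h => ?_, fun h => by simpa [h] using sub_red_mem ρ hρ z⟩
  obtain ⟨c, rfl⟩ := Ideal.mem_span_singleton'.1 h
  rw [map_mul, Algebra.TensorProduct.algebraMap_apply, red_tmul, Algebra.algebraMap_self, RingHom.id_apply,
    rho_t ρ hρ, map_zero, zero_mul, mul_zero]

theorem regular_tensor [IsDomain A] (ht : t ≠ 0) :
    IsLeftRegular (algebraMap A (A ⊗[k] B₀) t) := by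
  have h : Function.Injective (LinearMap.rTensor B₀ (LinearMap.mulLeft k t)) :=
    Module.Flat.rTensor_preserves_injective_linearMap _ fun a c hac => mul_left_cancel₀ ht hac
  have e : ∀ z, LinearMap.rTensor B₀ (LinearMap.mulLeft k t) z = algebraMap A (A ⊗[k] B₀) t * z := by
    intro z
    induction z with
    | zero => simp
    | add y z hy hz => rw [map_add, mul_add, hy, hz]
    | tmul a b => simp [Algebra.TensorProduct.algebraMap_apply]
  intro a c hac
  exact h (by rw [e, e]; exact hac)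

include hρ in
theorem exists_level [IsDomain A] (ht : t ≠ 0) [Module.Flat A B]
    (hrigid : Subsingleton (CotT.T1 (CotT.canon k B₀) B₀)) {N : ℕ} (π : MvPolynomial (Fin N) A →ₐ[A] B)
    (hπ : Function.Surjective π) (e : (B ⧸ Ideal.span {algebraMap A B t}) ≃ₐ[k] B₀) (m : ℕ) :
    ∃ g : MvPolynomial (Fin N) A →ₐ[A] A ⊗[k] B₀,
      (∀ p ∈ RingHom.ker π, g p ∈ Ideal.span {algebraMap A (A ⊗[k] B₀) t ^ (m + 1)}) ∧
      ∀ p, red ρ (g p) = e (Ideal.Quotient.mk _ (π p)) := by
  let εB : B →ₐ[k] B₀ := e.toAlgHom.comp (Ideal.Quotient.mkₐ k _)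
  have hεB : ∀ b, εB b = e (Ideal.Quotient.mk _ b) := fun b => rfl
  have hεA : ∀ a : A, εB (algebraMap A B a) = algebraMap k B₀ (ρ a) := by
    intro a
    obtain ⟨c, hc⟩ := Ideal.mem_span_singleton'.1 ((hρ (a - algebraMap k A (ρ a))).1 (by simp))
    have ha : a = algebraMap k A (ρ a) + c * t := by rw [hc]; ring
    conv_lhs => rw [ha]
    rw [map_add, map_add, ← IsScalarTower.algebraMap_apply, AlgHom.commutes, map_mul, map_mul]
    have : εB (algebraMap A B t) = 0 := by
      rw [hεB, Ideal.Quotient.eq_zero_iff_mem.2 (Ideal.mem_span_singleton_self _), map_zero]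
    rw [this, mul_zero, add_zero]
  induction m with
  | zero =>
    refine ⟨MvPolynomial.aeval fun i => (1 : A) ⊗ₜ εB (π (X i)), ?_⟩
    have h : ∀ p, red ρ ((MvPolynomial.aeval fun i => (1 : A) ⊗ₜ[k] εB (π (X i))) p) = εB (π p) := by
      intro p
      induction p using MvPolynomial.induction_on with
      | C a =>
        rw [show (C a : MvPolynomial (Fin N) A) = algebraMap A _ a from rfl, AlgHom.commutes, AlgHom.commutes,
          Algebra.TensorProduct.algebraMap_apply, red_tmul, hεA]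
        simp
      | add p q hp hq => simp only [map_add, hp, hq]
      | mul_X p i hp => simp only [map_mul, hp, MvPolynomial.aeval_X, red_tmul, map_one, one_mul]
    exact ⟨fun p hp => by
      rw [zero_add, pow_one, mem_span_iff_red ρ hρ, h, RingHom.mem_ker.1 hp, map_zero], h⟩
  | succ m ih =>
    obtain ⟨g, hgI, hgε⟩ := ih
    set τ := algebraMap A (A ⊗[k] B₀) t with hτ
    have hreg : ∀ j, IsLeftRegular (τ ^ j) := fun j => (regular_tensor ht).pow j
    have htB : IsSMulRegular B (algebraMap A B t) :=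
      IsSMulRegular.of_flat fun a c hac => mul_left_cancel₀ ht hac
    let π₀ : MvPolynomial (Fin N) A →ₐ[k] B₀ := εB.comp (π.restrictScalars k)
    have hπ₀ : Function.Surjective π₀ :=
      (e.surjective.comp Ideal.Quotient.mk_surjective).comp hπ
    let Rel : MvPolynomial (Fin N) A → B₀ → Prop := fun x y =>
      ∃ i p w, i ∈ RingHom.ker π ∧ x = i + t • p ∧ g i = τ ^ (m + 1) * w ∧ y = red ρ w
    have hex : ∀ x : RingHom.ker π₀, ∃ y, Rel x y := by
      rintro ⟨x, hx⟩
      have : Ideal.Quotient.mk (Ideal.span {algebraMap A B t}) (π x) = 0 :=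
        e.injective ((show e _ = 0 from hx).trans (map_zero e).symm)
      obtain ⟨c, hc⟩ := Ideal.mem_span_singleton'.1 (Ideal.Quotient.eq_zero_iff_mem.1 this)
      obtain ⟨p, rfl⟩ := hπ c
      have hi : x - t • p ∈ RingHom.ker π := by
        rw [RingHom.mem_ker, map_sub, map_smul, Algebra.smul_def, ← hc, mul_comm, sub_self]
      obtain ⟨w, hw⟩ := Ideal.mem_span_singleton'.1 (hgI _ hi)
      exact ⟨_, x - t • p, p, w, hi, by simp, by rw [← hw, mul_comm], rfl⟩
    have huniq : ∀ {x y y'}, Rel x y → Rel x y' → y = y' := by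
      rintro x _ _ ⟨i, p, w, hi, rfl, hw, rfl⟩ ⟨i', p', w', hi', hx, hw', rfl⟩
      have hpp : p - p' ∈ RingHom.ker π := by
        rw [RingHom.mem_ker]
        refine htB ?_
        show algebraMap A B t • π (p - p') = algebraMap A B t • 0
        have h1 := congrArg π hx
        rw [map_add, map_add, RingHom.mem_ker.1 hi, RingHom.mem_ker.1 hi', zero_add, zero_add, map_smul,
          map_smul] at h1
        rw [smul_zero, map_sub, algebraMap_smul, smul_sub, h1, sub_self]
      obtain ⟨v, hv⟩ := Ideal.mem_span_singleton'.1 (hgI _ hpp)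
      have h2 : g i' - g i = τ * (τ ^ (m + 1) * v) := by
        rw [← map_sub, show i' - i = t • (p - p') by rw [smul_sub]; linear_combination hx.symm, map_smul,
          Algebra.smul_def, ← hv, hτ]
        ring
      rw [hw, hw'] at h2
      have h3 : w' - w = τ * v := (hreg (m + 1)) (by
        show τ ^ (m + 1) * _ = τ ^ (m + 1) * _
        rw [mul_sub, h2]; ring)
      have h4 : red ρ (w' - w) = 0 :=
        (mem_span_iff_red ρ hρ _).1 (Ideal.mem_span_singleton'.2 ⟨v, by rw [h3, mul_comm]⟩)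
      rw [map_sub, sub_eq_zero] at h4
      exact h4.symm
    choose φ hφ using hex
    have hadd : ∀ x y, φ (x + y) = φ x + φ y := by
      intro x y
      obtain ⟨i, p, w, hi, hx, hw, hy⟩ := hφ x
      obtain ⟨i', p', w', hi', hx', hw', hy'⟩ := hφ y
      refine huniq (hφ (x + y)) ⟨i + i', p + p', w + w', add_mem hi hi', ?_, ?_, ?_⟩
      · rw [Submodule.coe_add, hx, hx', smul_add]; abel
      · rw [map_add, hw, hw']; ring
      · rw [hy, hy', map_add]
    have hmul : ∀ (q : MvPolynomial (Fin N) A) (x : RingHom.ker π₀), φ (q • x) = π₀ q * φ x := by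
      intro q x
      obtain ⟨i, p, w, hi, hx, hw, hy⟩ := hφ x
      refine huniq (hφ (q • x)) ⟨q * i, q * p, g q * w, Ideal.mul_mem_left _ _ hi, ?_, ?_, ?_⟩
      · rw [Submodule.coe_smul, hx, smul_eq_mul, mul_add, mul_smul_comm]
      · rw [map_mul, hw]; ring
      · rw [hy, map_mul, hgε]; rfl
    obtain ⟨D, hDadd, hDmul, hDk, hDφ⟩ :=
      rigid_extend hrigid π₀ hπ₀ (AddMonoidHom.mk' φ hadd) hmul
    have hD0 : D 0 = 0 := by simpa using hDadd 0 0
    have hDC : ∀ a : A, D (algebraMap A _ a) = 0 := by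
      intro a
      obtain ⟨c, hc⟩ := Ideal.mem_span_singleton'.1 ((hρ (a - algebraMap k A (ρ a))).1 (by simp))
      have hmem : algebraMap A (MvPolynomial (Fin N) A) (c * t) ∈ RingHom.ker π₀ := by
        show εB (π (algebraMap A _ (c * t))) = 0
        rw [AlgHom.commutes, hεA, map_mul, rho_t ρ hρ, mul_zero, map_zero]
      have h0 : D (algebraMap A _ (c * t)) = 0 := by
        refine (hDφ ⟨_, hmem⟩).trans (huniq (hφ _) ⟨0, algebraMap A _ c, 0, zero_mem _, ?_, by simp, by simp⟩)
        show algebraMap A _ (c * t) = 0 + t • algebraMap A _ c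
        rw [zero_add, Algebra.smul_def, ← map_mul, mul_comm]
      have ha : a = algebraMap k A (ρ a) + c * t := by rw [hc]; ring
      rw [ha, map_add, hDadd, ← IsScalarTower.algebraMap_apply, hDk, h0, add_zero]
    let g' : MvPolynomial (Fin N) A →ₐ[A] A ⊗[k] B₀ :=
      MvPolynomial.aeval fun i => g (X i) - τ ^ (m + 1) * ((1 : A) ⊗ₜ D (X i))
    have hclaim : ∀ p, g' p - (g p - τ ^ (m + 1) * ((1 : A) ⊗ₜ D p)) ∈ Ideal.span {τ ^ (m + 2)} := by
      intro p
      induction p using MvPolynomial.induction_on with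
      | C a =>
        rw [show (C a : MvPolynomial (Fin N) A) = algebraMap A _ a from rfl, hDC, AlgHom.commutes,
          AlgHom.commutes]
        simp
      | add p q hp hq =>
        rw [map_add, map_add, hDadd, tmul_add]
        convert add_mem hp hq using 1
        ring
      | mul_X p i hp =>
        obtain ⟨r, hr⟩ := Ideal.mem_span_singleton'.1 hp
        obtain ⟨s₁, hs₁⟩ := Ideal.mem_span_singleton'.1 (sub_red_mem ρ hρ (g p))
        obtain ⟨s₂, hs₂⟩ := Ideal.mem_span_singleton'.1 (sub_red_mem ρ hρ (g (X i)))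
        rw [map_mul, map_mul, show g' (X i) = _ from MvPolynomial.aeval_X _ i, hDmul, tmul_add]
        have t1 : ∀ x : B₀, (1 : A) ⊗ₜ[k] (π₀ p * x) = (g p - s₁ * τ) * ((1 : A) ⊗ₜ x) := fun x => by
          rw [hτ, hs₁, sub_sub_cancel, Algebra.TensorProduct.tmul_mul_tmul, mul_one, hgε]; rfl
        have t2 : ∀ x : B₀, (1 : A) ⊗ₜ[k] (π₀ (X i) * x) = (g (X i) - s₂ * τ) * ((1 : A) ⊗ₜ x) := fun x => by
          rw [hτ, hs₂, sub_sub_cancel, Algebra.TensorProduct.tmul_mul_tmul, mul_one, hgε]; rfl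
        rw [t1, t2]
        refine Ideal.mem_span_singleton'.2 ⟨r * (g (X i) - τ ^ (m + 1) * ((1 : A) ⊗ₜ D (X i))) +
          τ ^ m * (((1 : A) ⊗ₜ D p) * ((1 : A) ⊗ₜ D (X i))) - s₂ * ((1 : A) ⊗ₜ D p) -
            s₁ * ((1 : A) ⊗ₜ D (X i)), ?_⟩
        linear_combination (g (X i) - τ ^ (m + 1) * ((1 : A) ⊗ₜ D (X i))) * hr
    refine ⟨g', fun r hr => ?_, fun p => ?_⟩
    · obtain ⟨w, hw⟩ := Ideal.mem_span_singleton'.1 (hgI r hr)
      have hr₀ : r ∈ RingHom.ker π₀ := by
        show εB (π r) = 0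
        rw [RingHom.mem_ker.1 hr, map_zero]
      have hD : D r = red ρ w :=
        (hDφ ⟨r, hr₀⟩).trans (huniq (hφ _) ⟨r, 0, w, hr, by simp, by rw [← hw, mul_comm], rfl⟩)
      obtain ⟨v, hv⟩ := Ideal.mem_span_singleton'.1 (hclaim r)
      obtain ⟨s, hs⟩ := Ideal.mem_span_singleton'.1 (sub_red_mem ρ hρ w)
      refine Ideal.mem_span_singleton'.2 ⟨v + s, ?_⟩
      rw [hD] at hv
      linear_combination hv + hw + τ ^ (m + 1) * hs
    · obtain ⟨v, hv⟩ := Ideal.mem_span_singleton'.1 (hclaim p)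
      have h : g' p - g p ∈ Ideal.span {τ} :=
        Ideal.mem_span_singleton'.2 ⟨τ ^ (m + 1) * v - τ ^ m * ((1 : A) ⊗ₜ D p), by linear_combination hv⟩
      rw [mem_span_iff_red ρ hρ, map_sub, sub_eq_zero] at h
      rw [h, hgε]

end Groth.Agent.CotT43
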