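import Groth.Agent.CotT43.NoSmoothing

/-!
Rigid singular schemes admit no smoothing.
-/

set_option autoImplicit false

universe u

namespace Groth.Agent.CotT43

theorem exists_not_mem_smoothLocus {k : Type u} [Field k] [IsAlgClosed k] (B₀ : Type u) [CommRing B₀]
    [Algebra k B₀] [Algebra.FiniteType k B₀] (hsing : ¬ Algebra.Smooth k B₀)
    (hrigid : Subsingleton (CotT.T1 (CotT.canon k B₀) B₀))
    (A B : Type u) [CommRing A] [CommRing B] [IsDomain A] [Algebra k A] [Algebra.FiniteType k A]
    (hdim : ringKrullDim A = 1) (t : A) (ht : (Ideal.span {t}).IsMaximal)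
    [Algebra A B] [Algebra.FiniteType A B] [Module.Flat A B] [Algebra k B] [IsScalarTower k A B]
    (e : (B ⧸ Ideal.span {algebraMap A B t}) ≃ₐ[k] B₀) :
    ∃ q : PrimeSpectrum B, algebraMap A B t ∉ q.asIdeal ∧ q ∉ Algebra.smoothLocus A B := by
  by_contra hne
  push Not at hne
  haveI : IsNoetherianRing A := Algebra.FiniteType.isNoetherianRing k A
  haveI : Algebra.FinitePresentation A B := Algebra.FinitePresentation.of_finiteType.1 inferInstance
  haveI : Algebra.FormallySmooth A (Localization.Away (algebraMap A B t)) :=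
    Algebra.basicOpen_subset_smoothLocus_iff.1 fun q hq => hne q hq
  have ht0 : t ≠ 0 := by
    rintro rfl
    rw [Ideal.span_singleton_eq_bot.2 rfl] at ht
    have h0 : ringKrullDim A = 0 := ringKrullDim_eq_zero_of_isField
      (Ring.isField_iff_isSimpleOrder_ideal.2 ⟨fun I => or_iff_not_imp_left.2 fun h => ht.1.2 I (bot_lt_iff_ne_bot.2 h)⟩)
    rw [h0] at hdim
    exact zero_ne_one hdim
  have htu : ¬ IsUnit t := fun h => ht.ne_top (Ideal.span_singleton_eq_top.2 h)
  haveI := ht
  haveI : Module.Finite k (A ⧸ Ideal.span {t}) :=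
    letI := Ideal.Quotient.field (Ideal.span {t})
    finite_of_finite_type_of_isJacobsonRing k (A ⧸ Ideal.span {t})
  have hb : Function.Bijective (Algebra.ofId k (A ⧸ Ideal.span {t})) :=
    IsAlgClosed.algebraMap_bijective_of_isIntegral
  let ρ : A →ₐ[k] k := (AlgEquiv.ofBijective _ hb).symm.toAlgHom.comp (Ideal.Quotient.mkₐ k _)
  have hρ : ∀ a, ρ a = 0 ↔ a ∈ Ideal.span {t} := fun a => by
    show (AlgEquiv.ofBijective _ hb).symm (Ideal.Quotient.mk _ a) = 0 ↔ _
    rw [map_eq_zero_iff _ (AlgEquiv.injective _), Ideal.Quotient.eq_zero_iff_mem]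
  obtain ⟨N, π, hπ⟩ := Algebra.FiniteType.iff_quotient_mvPolynomial''.1 (inferInstance : Algebra.FiniteType A B)
  obtain ⟨n, D, hD, hDn⟩ := exists_derivation_smul t π hπ (IsNoetherian.noetherian _)
  obtain ⟨g, hgI, hgε⟩ := exists_level ρ hρ ht0 hrigid π hπ e n
  haveI : Algebra.FormallySmooth k B₀ := formallySmooth_of_level ρ hρ ht0 htu π hπ e D hD hDn g hgI hgε
  haveI : Algebra.FinitePresentation k B₀ := Algebra.FinitePresentation.of_finiteType.1 inferInstance
  exact hsing ⟨inferInstance, inferInstance⟩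

end Groth.Agent.CotT43
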