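import Mathlib

/-!
Smoothness away from `t`: a derivation of the ambient polynomial ring restricting to `t ^ n` on the conormal module.
-/

set_option autoImplicit false

universe u

namespace Groth.Agent.CotT43

variable {A B : Type u} [CommRing A] [CommRing B] [Algebra A B] {N : ℕ}

open MvPolynomial

theorem exists_derivation_smul (t : A) [Algebra.FormallySmooth A (Localization.Away (algebraMap A B t))]
    (π : MvPolynomial (Fin N) A →ₐ[A] B) (hπ : Function.Surjective π) (hfg : (RingHom.ker π).FG) :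
    ∃ (n : ℕ) (D : Derivation A (MvPolynomial (Fin N) A) (MvPolynomial (Fin N) A)),
      (∀ p, D p ∈ RingHom.ker π) ∧ ∀ r ∈ RingHom.ker π, D r - t ^ n • r ∈ RingHom.ker π ^ 2 := by
  classical
  set I := RingHom.ker π with hI
  let E := MvPolynomial (Fin N) A ⧸ I ^ 2
  let πE : E →ₐ[A] B := Ideal.Quotient.liftₐ (I ^ 2) π fun r hr => Ideal.pow_le_self two_ne_zero hr
  have hπE : ∀ p, πE (Ideal.Quotient.mkₐ A _ p) = π p := fun p => rfl
  let τ : E := algebraMap A E t
  let Et := Localization.Away τ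
  let Bt := Localization.Away (algebraMap A B t)
  have hτB : IsUnit ((IsScalarTower.toAlgHom A B Bt).comp πE τ) := by
    rw [AlgHom.commutes, IsScalarTower.algebraMap_apply A B Bt]
    exact IsLocalization.Away.algebraMap_isUnit _
  let f : Et →ₐ[A] Bt := IsLocalization.Away.liftAlgHom τ hτB
  have hf : ∀ x : E, f (algebraMap E Et x) = algebraMap B Bt (πE x) := fun x =>
    IsLocalization.Away.lift_eq τ (g := ((IsScalarTower.toAlgHom A B Bt).comp πE).toRingHom) hτB x
  have hτpow : ∀ a : ℕ, algebraMap E Et (τ ^ a) = algebraMap A Et (t ^ a) := fun a => by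
    rw [← map_pow, ← IsScalarTower.algebraMap_apply]
  have hunit : ∀ a : ℕ, IsUnit (algebraMap A Et (t ^ a)) := fun a => by
    rw [← hτpow, map_pow]
    exact (IsLocalization.Away.algebraMap_isUnit τ).pow a
  have hsurj : Function.Surjective f := by
    intro z
    obtain ⟨a, b, hb⟩ := IsLocalization.Away.surj (algebraMap A B t) z
    obtain ⟨p, rfl⟩ := hπ b
    refine ⟨algebraMap E Et (Ideal.Quotient.mkₐ A _ p) * ((hunit a).unit⁻¹ : Etˣ), ?_⟩
    have h1 : f ((hunit a).unit⁻¹ : Etˣ) * algebraMap A Bt (t ^ a) = 1 := by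
      rw [← f.commutes, ← map_mul, IsUnit.val_inv_mul, map_one]
    have h2 : algebraMap B Bt (algebraMap A B t) ^ a = algebraMap A Bt (t ^ a) := by
      rw [← IsScalarTower.algebraMap_apply, ← map_pow]
    rw [map_mul, hf, hπE, ← hb, mul_assoc, h2, mul_comm (algebraMap A Bt _),
      h1, mul_one]
  have hkerE : ∀ {u : Et}, f u = 0 → ∃ (a : ℕ) (j : MvPolynomial (Fin N) A),
      j ∈ I ∧ u * algebraMap A Et (t ^ a) = algebraMap E Et (Ideal.Quotient.mkₐ A _ j) := by
    intro u hu
    obtain ⟨a, e, he⟩ := IsLocalization.Away.surj τ u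
    obtain ⟨p, rfl⟩ := Ideal.Quotient.mkₐ_surjective A _ e
    rw [← map_pow, hτpow] at he
    have h0 : algebraMap B Bt (π p) = 0 := by
      rw [← hπE, ← hf, ← he, map_mul, hu, zero_mul]
    obtain ⟨⟨_, c, rfl⟩, hc⟩ := (IsLocalization.map_eq_zero_iff (Submonoid.powers (algebraMap A B t)) Bt _).1 h0
    refine ⟨a + c, t ^ c • p, ?_, ?_⟩
    · rw [hI, RingHom.mem_ker, map_smul, Algebra.smul_def, map_pow]
      exact hc
    · rw [pow_add, map_mul, ← mul_assoc, he, map_smul, Algebra.smul_def, map_mul,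
        ← IsScalarTower.algebraMap_apply, mul_comm]
  have hsq : ∀ {u v : Et}, f u = 0 → f v = 0 → u * v = 0 := by
    intro u v hu hv
    obtain ⟨a, j, hj, hju⟩ := hkerE hu
    obtain ⟨c, l, hl, hlv⟩ := hkerE hv
    refine ((hunit a).mul (hunit c)).mul_left_eq_zero.1 ?_
    rw [mul_mul_mul_comm, hju, hlv, ← map_mul, ← map_mul,
      show Ideal.Quotient.mkₐ A (I ^ 2) (j * l) = 0 from
        Ideal.Quotient.eq_zero_iff_mem.2 (by rw [sq]; exact Ideal.mul_mem_mul hj hl), map_zero]
  have hnil : IsNilpotent (RingHom.ker (f : Et →+* Bt)) := ⟨2,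
    (pow_two _).trans (le_bot_iff.1 (Ideal.mul_le.2 fun u hu v hv => Submodule.mem_bot (R := Et) |>.2 (hsq hu hv)))⟩
  let s := Algebra.FormallySmooth.liftOfSurjective (AlgHom.id A Bt) f hsurj hnil
  have hs : ∀ x, f (s x) = x := fun x => Algebra.FormallySmooth.liftOfSurjective_apply _ _ _ _ x
  let ιP : MvPolynomial (Fin N) A →ₐ[A] Et :=
    (IsScalarTower.toAlgHom A E Et).comp (Ideal.Quotient.mkₐ A (I ^ 2))
  let sP : MvPolynomial (Fin N) A →ₐ[A] Et := s.comp ((IsScalarTower.toAlgHom A B Bt).comp π)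
  have hfι : ∀ p, f (ιP p) = f (sP p) := fun p => by
    show f (algebraMap E Et (Ideal.Quotient.mkₐ A _ p)) = f (s (algebraMap B Bt (π p)))
    rw [hs, hf, hπE]
  have hu : ∀ i, ∃ (a : ℕ) (j : MvPolynomial (Fin N) A), j ∈ I ∧
      (ιP (X i) - sP (X i)) * algebraMap A Et (t ^ a) = ιP j := fun i =>
    hkerE (by rw [map_sub, hfι, sub_self])
  choose a j hjI hj using hu
  let a₀ := ∑ i, a i
  have ha : ∀ i, ∃ d, a₀ = a i + d := fun i =>
    Nat.exists_eq_add_of_le (Finset.single_le_sum (fun i _ => Nat.zero_le _) (Finset.mem_univ i))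
  choose d hd using ha
  let D₀ := MvPolynomial.mkDerivation A (fun i => t ^ d i • j i)
  have hD₀ : ∀ p, D₀ p ∈ I ∧ ιP (D₀ p) = algebraMap A Et (t ^ a₀) * (ιP p - sP p) := by
    intro p
    induction p using MvPolynomial.induction_on with
    | C c =>
      rw [show (C c : MvPolynomial (Fin N) A) = algebraMap A _ c from rfl, Derivation.map_algebraMap]
      simp
    | add p q hp hq =>
      rw [map_add, map_add, map_add, map_add, hp.2, hq.2]
      exact ⟨add_mem hp.1 hq.1, by ring⟩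
    | mul_X p i hp =>
      have hX : D₀ (X i) = t ^ d i • j i := MvPolynomial.mkDerivation_X ..
      rw [Derivation.leibniz, hX, smul_eq_mul, smul_eq_mul]
      refine ⟨add_mem (Ideal.mul_mem_left _ _ ?_) (Ideal.mul_mem_left _ _ hp.1), ?_⟩
      · exact Submodule.smul_of_tower_mem _ _ (hjI i)
      rw [map_add, map_mul, map_mul, hp.2, map_smul, ← hj, Algebra.smul_def, map_mul, map_mul, hd i, pow_add,
        map_mul]
      have h0 : (ιP p - sP p) * (ιP (X i) - sP (X i)) = 0 :=
        hsq (by rw [map_sub, hfι, sub_self]) (by rw [map_sub, hfι, sub_self])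
      linear_combination (algebraMap A Et (t ^ a i) * algebraMap A Et (t ^ d i)) * h0
  obtain ⟨S, hS⟩ := hfg
  have hgen : ∀ r : S, ∃ c : ℕ, t ^ c • (D₀ r - t ^ a₀ • (r : MvPolynomial (Fin N) A)) ∈ I ^ 2 := by
    rintro ⟨r, hr⟩
    have hrI : r ∈ I := by rw [← hS]; exact Ideal.subset_span hr
    have h := (hD₀ r).2
    have hs0 : sP r = 0 := by
      show s (algebraMap B Bt (π r)) = 0
      rw [RingHom.mem_ker.1 hrI, map_zero, map_zero]
    rw [hs0, sub_zero, ← Algebra.smul_def, ← map_smul, ← sub_eq_zero, ← map_sub] at h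
    obtain ⟨⟨_, c, rfl⟩, hc⟩ := (IsLocalization.map_eq_zero_iff (Submonoid.powers τ) Et _).1 h
    refine ⟨c, Ideal.Quotient.eq_zero_iff_mem.1 ?_⟩
    rw [← Ideal.Quotient.mkₐ_eq_mk A, map_smul, Algebra.smul_def, map_pow]
    exact hc
  choose c hc using hgen
  let c₀ := ∑ r, c r
  refine ⟨a₀ + c₀, t ^ c₀ • D₀, fun p => ?_, fun r hr => ?_⟩
  · rw [Derivation.smul_apply]
    exact Submodule.smul_of_tower_mem _ _ (hD₀ p).1
  have hr' : r ∈ Ideal.span (S : Set (MvPolynomial (Fin N) A)) := by rw [hS]; exact hr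
  suffices h : t ^ c₀ • (D₀ r - t ^ a₀ • r) ∈ I ^ 2 by
    rwa [smul_sub, smul_smul, ← pow_add, add_comm c₀, ← Derivation.smul_apply] at h
  have key : ∀ r, r ∈ Ideal.span (S : Set (MvPolynomial (Fin N) A)) →
      r ∈ I ∧ t ^ c₀ • (D₀ r - t ^ a₀ • r) ∈ I ^ 2 := by
    intro r hr
    induction hr using Submodule.span_induction with
    | mem r hrS =>
      obtain ⟨e, he⟩ := Nat.exists_eq_add_of_le
        (Finset.single_le_sum (f := c) (fun r _ => Nat.zero_le _) (Finset.mem_univ ⟨r, hrS⟩))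
      refine ⟨by rw [← hS]; exact Ideal.subset_span hrS, ?_⟩
      show t ^ c₀ • _ ∈ _
      rw [show c₀ = e + c ⟨r, hrS⟩ from he.trans (add_comm _ _), pow_add, mul_smul]
      exact Submodule.smul_of_tower_mem _ _ (hc ⟨r, hrS⟩)
    | zero => simp
    | add p q _ _ hp hq =>
      refine ⟨add_mem hp.1 hq.1, ?_⟩
      rw [map_add, smul_add, add_sub_add_comm, smul_add]
      exact add_mem hp.2 hq.2
    | smul q r _ h =>
      refine ⟨Submodule.smul_mem _ _ h.1, ?_⟩
      have e : t ^ c₀ • (D₀ (q • r) - t ^ a₀ • (q • r)) =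
          q * (t ^ c₀ • (D₀ r - t ^ a₀ • r)) + t ^ c₀ • (r * D₀ q) := by
        simp only [smul_eq_mul, Derivation.leibniz, Algebra.smul_def]
        ring
      rw [e, sq]
      exact add_mem (Ideal.mul_mem_left _ _ (sq I ▸ h.2))
        (Submodule.smul_of_tower_mem _ _ (Ideal.mul_mem_mul h.1 (hD₀ q).1))
  exact (key r hr').2

end Groth.Agent.CotT43
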