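import Groth.Agent.CotT43.Lift
import Groth.Agent.CotT43.SmoothAway

/-!
A rigid singular algebra has no smoothing over a smooth affine curve.
-/

set_option autoImplicit false

universe u

open TensorProduct MvPolynomial

namespace Groth.Agent.CotT43

variable {k A B B₀ : Type u} [Field k] [CommRing A] [Algebra k A] [CommRing B] [Algebra A B] [Algebra k B]
  [IsScalarTower k A B] [CommRing B₀] [Algebra k B₀]

/-- The evaluation presentation of `B₀`. -/
noncomputable abbrev evalPres (k B₀ : Type u) [CommRing k] [CommRing B₀] [Algebra k B₀] :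
    MvPolynomial B₀ k →ₐ[k] B₀ :=
  MvPolynomial.aeval id

/-- The universal square-zero extension. -/
abbrev Univ (k B₀ : Type u) [CommRing k] [CommRing B₀] [Algebra k B₀] : Type u :=
  MvPolynomial B₀ k ⧸ RingHom.ker (evalPres k B₀).toRingHom ^ 2

theorem coeff_smul {M : Type*} [AddCommGroup M] [Module k M] (lam : A →ₗ[k] k) (a : A) (x : M) :
    TensorProduct.lid k M (LinearMap.rTensor M lam (a ⊗ₜ x)) = lam a • x := by simp

theorem formallySmooth_of_level [IsDomain A] (ρ : A →ₐ[k] k) {t : A} (hρ : ∀ a, ρ a = 0 ↔ a ∈ Ideal.span {t})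
    (ht : t ≠ 0) (htu : ¬ IsUnit t) [Module.Flat A B] {N n : ℕ} (π : MvPolynomial (Fin N) A →ₐ[A] B)
    (hπ : Function.Surjective π) (e : (B ⧸ Ideal.span {algebraMap A B t}) ≃ₐ[k] B₀)
    (D : Derivation A (MvPolynomial (Fin N) A) (MvPolynomial (Fin N) A))
    (hD : ∀ p, D p ∈ RingHom.ker π) (hDn : ∀ r ∈ RingHom.ker π, D r - t ^ n • r ∈ RingHom.ker π ^ 2)
    (g : MvPolynomial (Fin N) A →ₐ[A] A ⊗[k] B₀)
    (hgI : ∀ p ∈ RingHom.ker π, g p ∈ Ideal.span {algebraMap A (A ⊗[k] B₀) t ^ (n + 1)})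
    (hgε : ∀ p, red ρ (g p) = e (Ideal.Quotient.mk _ (π p))) :
    Algebra.FormallySmooth k B₀ := by
  classical
  set R := A ⊗[k] B₀
  set τ := algebraMap A R t with hτ
  have hregτ : ∀ j, IsLeftRegular (τ ^ j) := fun j => (regular_tensor ht).pow j
  -- surjectivity and kernel modulo `t ^ (n + 1)`
  have hS : ∀ (j : ℕ) (z : R), ∃ p, g p - z ∈ Ideal.span {τ ^ j} := by
    intro j
    induction j with
    | zero => intro z; exact ⟨0, by simp⟩
    | succ j ih =>
      intro z
      obtain ⟨p, hp⟩ := ih z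
      obtain ⟨w, hw⟩ := Ideal.mem_span_singleton'.1 hp
      obtain ⟨b, hb⟩ := e.surjective (red ρ w)
      obtain ⟨b, rfl⟩ := Ideal.Quotient.mk_surjective b
      obtain ⟨q, rfl⟩ := hπ b
      rw [← hgε, ← sub_eq_zero, ← map_sub, ← mem_span_iff_red ρ hρ] at hb
      obtain ⟨v, hv⟩ := Ideal.mem_span_singleton'.1 hb
      refine ⟨p - t ^ j • q, Ideal.mem_span_singleton'.2 ⟨-v, ?_⟩⟩
      rw [map_sub g, map_smul g, Algebra.smul_def, map_pow, ← hτ]
      linear_combination hw - τ ^ j * hv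
  have hK : ∀ j, j ≤ n + 1 → ∀ p, g p ∈ Ideal.span {τ ^ j} → ∃ q, p - t ^ j • q ∈ RingHom.ker π := by
    intro j
    induction j with
    | zero => intro _ p _; exact ⟨p, by simp⟩
    | succ j ih =>
      intro hj p hp
      obtain ⟨w, hw⟩ := Ideal.mem_span_singleton'.1 hp
      obtain ⟨q, hq⟩ := ih (by omega) p (Ideal.mem_span_singleton'.2 ⟨w * τ, by rw [← hw]; ring⟩)
      obtain ⟨v, hv⟩ := Ideal.mem_span_singleton'.1 (hgI _ hq)
      rw [map_sub, map_smul, Algebra.smul_def, map_pow, ← hτ] at hv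
      obtain ⟨d, hd⟩ := Nat.exists_eq_add_of_le (show j + 1 ≤ n + 1 from hj)
      have h1 : g q = τ * (w - τ ^ d * v) := (hregτ j) (by
        show τ ^ j * _ = τ ^ j * _
        rw [hd] at hv
        linear_combination hv - hw)
      have h2 : red ρ (g q) = 0 := (mem_span_iff_red ρ hρ _).1
        (Ideal.mem_span_singleton'.2 ⟨w - τ ^ d * v, by rw [h1, mul_comm]⟩)
      rw [hgε, map_eq_zero_iff e e.injective, Ideal.Quotient.eq_zero_iff_mem, Ideal.mem_span_singleton'] at h2
      obtain ⟨c, hc⟩ := h2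
      obtain ⟨q', rfl⟩ := hπ c
      refine ⟨q', ?_⟩
      rw [RingHom.mem_ker, map_sub, map_smul, sub_eq_zero]
      have h3 := RingHom.mem_ker.1 hq
      rw [map_sub, map_smul, sub_eq_zero] at h3
      rw [h3, ← hc, pow_succ, mul_smul, Algebra.smul_def t, mul_comm]
  -- the universal square-zero extension of `B₀`
  let p₀ : Univ k B₀ →ₐ[k] B₀ := (evalPres k B₀).kerSquareLift
  have hp₀ : Function.Surjective p₀ := fun b =>
    ⟨Ideal.Quotient.mk _ (X b), by show (evalPres k B₀) (X b) = b; simp [evalPres]⟩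
  have hsq₀ : ∀ {x y : (Univ k B₀)}, p₀ x = 0 → p₀ y = 0 → x * y = 0 := by
    intro x y hx hy
    have hk : ∀ {z : (Univ k B₀)}, p₀ z = 0 → z ∈ (RingHom.ker (evalPres k B₀).toRingHom).cotangentIdeal := by
      intro z hz
      rw [← AlgHom.ker_kerSquareLift]
      exact hz
    have h := Ideal.mul_mem_mul (hk hx) (hk hy)
    exact Ideal.mem_bot.1 (le_of_eq ((pow_two _).symm.trans (Ideal.cotangentIdeal_square _)) h)
  let M : A ⊗[k] (Univ k B₀) →ₐ[A] R := Algebra.TensorProduct.map (AlgHom.id A A) p₀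
  have hM : Function.Surjective M := fun z => by
    induction z using TensorProduct.induction_on with
    | zero => exact ⟨0, map_zero _⟩
    | add y z hy hz =>
      obtain ⟨a, rfl⟩ := hy
      obtain ⟨b, rfl⟩ := hz
      exact ⟨a + b, map_add _ _ _⟩
    | tmul a b =>
      obtain ⟨x, rfl⟩ := hp₀ b
      exact ⟨a ⊗ₜ x, rfl⟩
  have hMt : ∀ (a : A) (x : (Univ k B₀)), M (a ⊗ₜ x) = a ⊗ₜ p₀ x := fun _ _ => rfl
  have hsmul : ∀ (a : A) (z : A ⊗[k] (Univ k B₀)), a • z = algebraMap A (A ⊗[k] (Univ k B₀)) a * z := by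
    intro a z
    induction z using TensorProduct.induction_on with
    | zero => simp
    | add y z hy hz => rw [smul_add, mul_add, hy, hz]
    | tmul b x =>
      show _ = (a ⊗ₜ[k] (1 : (Univ k B₀))) * (b ⊗ₜ x)
      rw [smul_tmul', Algebra.TensorProduct.tmul_mul_tmul, one_mul, smul_eq_mul]
  let G : MvPolynomial (Fin N) A →ₐ[A] A ⊗[k] (Univ k B₀) :=
    MvPolynomial.aeval fun i => Function.surjInv hM (g (X i))
  have hG : ∀ p, M (G p) = g p := by
    have : M.comp G = g := MvPolynomial.algHom_ext fun i => by simp [G, Function.surjInv_eq hM]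
    exact fun p => AlgHom.congr_fun this p
  set σ := algebraMap A (A ⊗[k] (Univ k B₀)) t with hσ
  let K : Ideal (A ⊗[k] (Univ k B₀)) := (Ideal.span {τ ^ (n + 1)}).comap M
  have hKK : K * K ≤ Ideal.span {σ ^ (n + 1)} := by
    have hker : RingHom.ker (Algebra.TensorProduct.map (AlgHom.id k A) p₀) =
        (RingHom.ker p₀).map (Algebra.TensorProduct.includeRight : (Univ k B₀) →ₐ[k] A ⊗[k] (Univ k B₀)) :=
      Algebra.TensorProduct.lTensor_ker p₀ hp₀
    have hdec : ∀ z ∈ K, ∃ z', z - σ ^ (n + 1) * z' ∈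
        (RingHom.ker p₀).map (Algebra.TensorProduct.includeRight : (Univ k B₀) →ₐ[k] A ⊗[k] (Univ k B₀)) := by
      intro z hz
      obtain ⟨w, hw⟩ := Ideal.mem_span_singleton'.1 (Ideal.mem_comap.1 hz)
      obtain ⟨z', rfl⟩ := hM w
      refine ⟨z', ?_⟩
      rw [← hker, RingHom.mem_ker]
      show M (z - σ ^ (n + 1) * z') = 0
      rw [map_sub, map_mul, map_pow, hσ, AlgHom.commutes, ← hw]
      ring
    refine Ideal.mul_le.2 fun x hx y hy => ?_
    obtain ⟨x', hx'⟩ := hdec x hx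
    obtain ⟨y', hy'⟩ := hdec y hy
    have h0 := Ideal.mul_mem_mul hx' hy'
    have hbot : (RingHom.ker p₀).map (Algebra.TensorProduct.includeRight : (Univ k B₀) →ₐ[k] A ⊗[k] (Univ k B₀)) *
        (RingHom.ker p₀).map (Algebra.TensorProduct.includeRight : (Univ k B₀) →ₐ[k] A ⊗[k] (Univ k B₀)) = ⊥ := by
      have key : ∀ a ∈ (RingHom.ker p₀).map (Algebra.TensorProduct.includeRight : (Univ k B₀) →ₐ[k] A ⊗[k] (Univ k B₀)),
          ∀ y : Univ k B₀, p₀ y = 0 → a * ((1 : A) ⊗ₜ y) = 0 := by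
        intro a ha y hy
        induction ha using Submodule.span_induction with
        | mem a ha =>
          obtain ⟨x, hx, rfl⟩ := ha
          rw [Algebra.TensorProduct.includeRight_apply, Algebra.TensorProduct.tmul_mul_tmul, hsq₀ hx hy, tmul_zero]
        | zero => rw [zero_mul]
        | add a c _ _ ha hc => rw [add_mul, ha, hc, add_zero]
        | smul r a _ ha => rw [smul_eq_mul, mul_assoc, ha, mul_zero]
      refine le_bot_iff.1 (Ideal.mul_le.2 fun a ha c hc => Ideal.mem_bot.2 ?_)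
      induction hc using Submodule.span_induction with
      | mem c hc =>
        obtain ⟨y, hy, rfl⟩ := hc
        exact key a ha y hy
      | zero => rw [mul_zero]
      | add c d _ _ hc hd => rw [mul_add, hc, hd, add_zero]
      | smul r c _ hc =>
        rw [smul_eq_mul]
        exact (mul_left_comm a r c).trans (by rw [hc]; exact mul_zero r)
    rw [hbot, Ideal.mem_bot] at h0
    refine Ideal.mem_span_singleton'.2
      ⟨x' * y + x * y' - σ ^ (n + 1) * (x' * y'), by linear_combination -h0⟩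
  -- the functional reading off the coefficient of `t ^ n`
  obtain ⟨lam, hlam, hlam'⟩ : ∃ lam : A →ₗ[k] k, lam (t ^ n) = 1 ∧ ∀ a, lam (t ^ (n + 1) * a) = 0 := by
    set J : Ideal A := Ideal.span {t ^ (n + 1)}
    have hne : Ideal.Quotient.mkₐ k J (t ^ n) ≠ 0 := by
      intro h
      obtain ⟨c, hc⟩ := Ideal.mem_span_singleton'.1 (Ideal.Quotient.eq_zero_iff_mem.1 h)
      refine htu (IsUnit.of_mul_eq_one c (mul_left_cancel₀ (pow_ne_zero n ht) ?_))
      rw [mul_one]
      linear_combination hc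
    obtain ⟨f, hf⟩ := not_forall.1 ((Module.forall_dual_apply_eq_zero_iff k _).not.2 hne)
    refine ⟨(f (Ideal.Quotient.mkₐ k J (t ^ n)))⁻¹ • f.comp (Ideal.Quotient.mkₐ k J).toLinearMap, ?_, fun a => ?_⟩
    · simp only [LinearMap.smul_apply, LinearMap.comp_apply, AlgHom.toLinearMap_apply, smul_eq_mul]
      exact inv_mul_cancel₀ hf
    · simp only [LinearMap.smul_apply, LinearMap.comp_apply, AlgHom.toLinearMap_apply, smul_eq_mul]
      rw [show Ideal.Quotient.mkₐ k J (t ^ (n + 1) * a) = 0 from Ideal.Quotient.eq_zero_iff_mem.2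
        (Ideal.mul_mem_right _ _ (Ideal.mem_span_singleton_self _)), map_zero, mul_zero]
  let L : A ⊗[k] (Univ k B₀) →ₗ[k] (Univ k B₀) := (TensorProduct.lid k (Univ k B₀)).toLinearMap ∘ₗ LinearMap.rTensor (Univ k B₀) lam
  have hLt : ∀ a x, L (a ⊗ₜ x) = lam a • x := fun a x => coeff_smul lam a x
  have hL0 : ∀ z ∈ Ideal.span {σ ^ (n + 1)}, L z = 0 := by
    intro z hz
    obtain ⟨c, rfl⟩ := Ideal.mem_span_singleton'.1 hz
    clear hz
    induction c using TensorProduct.induction_on with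
    | zero => simp
    | add y z hy hz => rw [add_mul, map_add, hy, hz, add_zero]
    | tmul a x =>
      rw [hσ, ← map_pow, Algebra.TensorProduct.algebraMap_apply, Algebra.TensorProduct.tmul_mul_tmul,
        Algebra.algebraMap_self, RingHom.id_apply, mul_comm a, hLt, hlam', zero_smul]
  have hLmul : ∀ (x : (Univ k B₀)) (z : A ⊗[k] (Univ k B₀)), L (((1 : A) ⊗ₜ x) * z) = x * L z := by
    intro x z
    induction z using TensorProduct.induction_on with
    | zero => simp
    | add y z hy hz => rw [mul_add, map_add, hy, hz, map_add, mul_add]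
    | tmul a y => rw [Algebra.TensorProduct.tmul_mul_tmul, one_mul, hLt, hLt, mul_smul_comm]
  let LB : R →ₗ[k] B₀ := (TensorProduct.lid k B₀).toLinearMap ∘ₗ LinearMap.rTensor B₀ lam
  have hLB : ∀ z, p₀ (L z) = LB (M z) := by
    intro z
    induction z using TensorProduct.induction_on with
    | zero => simp
    | add y z hy hz => simp only [map_add, hy, hz]
    | tmul a y =>
      rw [hLt, map_smul]
      exact (coeff_smul lam a (p₀ y)).symm
  have hLB0 : ∀ z ∈ K, p₀ (L z) = 0 := by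
    intro z hz
    obtain ⟨c, hc⟩ := Ideal.mem_span_singleton'.1 (Ideal.mem_comap.1 hz)
    obtain ⟨c', rfl⟩ := hM c
    rw [hLB, ← hc, hτ, ← M.commutes, ← map_pow, ← map_mul, ← hLB,
      hL0 _ (Ideal.mul_mem_left _ _ (Ideal.mem_span_singleton_self _)), map_zero]
  -- the retraction
  have hex : ∀ x : (Univ k B₀), ∃ p, G p - (1 : A) ⊗ₜ x ∈ K := fun x => by
    obtain ⟨p, hp⟩ := hS (n + 1) ((1 : A) ⊗ₜ p₀ x)
    refine ⟨p, ?_⟩
    rw [Ideal.mem_comap, map_sub, hG]
    rw [hMt]
    exact hp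
  let u : MvPolynomial (Fin N) A → (Univ k B₀) → A ⊗[k] (Univ k B₀) := fun p x => G (D p) + t ^ n • ((1 : A) ⊗ₜ x - G p)
  choose P hP using hex
  let δ : (Univ k B₀) → (Univ k B₀) := fun x => L (u (P x) x)
  have hGI : ∀ r ∈ RingHom.ker π, G r ∈ K := fun r hr => by
    rw [Ideal.mem_comap, hG]
    exact hgI r hr
  have hGI2 : ∀ r ∈ RingHom.ker π ^ 2, G r ∈ Ideal.span {σ ^ (n + 1)} := fun r hr => by
    refine hKK ?_
    rw [pow_two] at hr
    exact Submodule.mul_induction_on hr (fun a ha b hb => by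
      rw [map_mul]; exact Ideal.mul_mem_mul (hGI a ha) (hGI b hb)) fun a b ha hb => by
      rw [map_add]; exact add_mem ha hb
  have hwd : ∀ x p, G p - (1 : A) ⊗ₜ x ∈ K → δ x = L (u p x) := by
    intro x p hp
    rw [← sub_eq_zero, ← map_sub]
    refine hL0 _ ?_
    have h : g (P x - p) ∈ Ideal.span {τ ^ (n + 1)} := by
      have := sub_mem (hP x) hp
      rw [sub_sub_sub_cancel_right, ← map_sub, Ideal.mem_comap, hG] at this
      exact this
    obtain ⟨q, hq⟩ := hK (n + 1) le_rfl _ h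
    set r := P x - p - t ^ (n + 1) • q with hr
    have hr1 : P x = p + r + t ^ (n + 1) • q := by rw [hr]; abel
    have : u (P x) x - u p x =
        G (D r - t ^ n • r) + t ^ (n + 1) • (G (D q) - t ^ n • G q) := by
      simp only [u, hr1, map_add, map_sub, Derivation.map_smul, map_smul, smul_sub, smul_add, smul_comm (t ^ n)]
      abel
    rw [this]
    refine add_mem (hGI2 _ (hDn r hq)) ?_
    rw [hsmul, map_pow, ← hσ]
    exact Ideal.mem_span_singleton'.2 ⟨G (D q) - t ^ n • G q,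
      mul_comm (G (D q) - t ^ n • G q) (σ ^ (n + 1))⟩
  have hval : ∀ x, p₀ (δ x) = 0 := fun x => hLB0 _ <| add_mem (hGI _ (hD _)) <| by
    rw [hsmul]
    exact Ideal.mul_mem_left _ _ (neg_sub (G (P x)) ((1 : A) ⊗ₜ x) ▸ neg_mem (hP x))
  have hfix : ∀ x, p₀ x = 0 → δ x = x := fun x hx => by
    rw [hwd x 0 (by
      rw [map_zero, zero_sub, Ideal.mem_comap, map_neg]
      simp [hMt, hx])]
    simp only [u, map_zero, sub_zero, zero_add, hsmul, Algebra.TensorProduct.algebraMap_apply,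
      Algebra.algebraMap_self, RingHom.id_apply, Algebra.TensorProduct.tmul_mul_tmul, mul_one, one_mul, hLt, hlam,
      map_one, one_smul]
  have hadd : ∀ x y, δ (x + y) = δ x + δ y := fun x y => by
    rw [hwd (x + y) (P x + P y) (by
      rw [map_add, tmul_add, add_sub_add_comm]; exact add_mem (hP x) (hP y)), ← map_add]
    congr 1
    simp only [u, map_add, tmul_add, smul_add, smul_sub]
    abel
  have hmul : ∀ x y, δ (x * y) = x * δ y + y * δ x := fun x y => by
    have e1 : ((1 : A) ⊗ₜ[k] x) * ((1 : A) ⊗ₜ y) = (1 : A) ⊗ₜ (x * y) := by simp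
    have hp : G (P x * P y) - (1 : A) ⊗ₜ (x * y) ∈ K := by
      rw [show G (P x * P y) - (1 : A) ⊗ₜ (x * y) =
          G (P x) * (G (P y) - (1 : A) ⊗ₜ y) + ((1 : A) ⊗ₜ y) * (G (P x) - (1 : A) ⊗ₜ x) by
        rw [map_mul, ← e1]; ring]
      exact add_mem (Ideal.mul_mem_left _ _ (hP y)) (Ideal.mul_mem_left _ _ (hP x))
    rw [hwd _ _ hp, ← hLmul, ← hLmul, ← map_add, ← sub_eq_zero, ← map_sub]
    refine hL0 _ (hKK ?_)
    rw [show u (P x * P y) (x * y) - ((1 : A) ⊗ₜ x * u (P y) y + (1 : A) ⊗ₜ y * u (P x) x) =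
        (G (P x) - (1 : A) ⊗ₜ x) * G (D (P y)) + (G (P y) - (1 : A) ⊗ₜ y) * G (D (P x)) -
          (G (P x) - (1 : A) ⊗ₜ x) * (t ^ n • (G (P y) - (1 : A) ⊗ₜ y)) by
      simp only [u, Derivation.leibniz, map_add, map_mul, smul_eq_mul, hsmul, ← e1]
      ring]
    refine sub_mem (add_mem (Ideal.mul_mem_mul (hP x) (hGI _ (hD _))) (Ideal.mul_mem_mul (hP y) (hGI _ (hD _))))
      (Ideal.mul_mem_mul (hP x) ?_)
    rw [hsmul]
    exact Ideal.mul_mem_left _ _ (hP y)
  -- the section
  have hsame : ∀ {x y}, p₀ x = p₀ y → x - δ x = y - δ y := by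
    intro x y h
    have h1 := hfix (x - y) (by rw [map_sub, h, sub_self])
    have h2 := hadd (x - y) y
    rw [sub_add_cancel, h1] at h2
    rw [h2]; ring
  have hδ1 : δ 1 = 0 := by
    have h := hmul 1 1
    rw [one_mul, one_mul] at h
    linear_combination -h
  have hδk : ∀ c : k, δ (algebraMap k (Univ k B₀) c) = 0 := fun c => by
    have e1 : (1 : A) ⊗ₜ[k] algebraMap k (Univ k B₀) c = algebraMap A (A ⊗[k] (Univ k B₀)) (algebraMap k A c) := by
      simp [Algebra.algebraMap_eq_smul_one, Algebra.TensorProduct.one_def]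
    rw [hwd _ (algebraMap A _ (algebraMap k A c)) (by rw [AlgHom.commutes, e1, sub_self]; exact zero_mem _)]
    simp [u, e1]
  let s : B₀ → (Univ k B₀) := fun b => Function.surjInv hp₀ b - δ (Function.surjInv hp₀ b)
  have hs : ∀ x, s (p₀ x) = x - δ x := fun x => hsame (Function.surjInv_eq hp₀ _)
  let sHom : B₀ →ₐ[k] (Univ k B₀) :=
    { toFun := s
      map_one' := by rw [← map_one p₀, hs, hδ1, sub_zero]
      map_mul' := fun a b => by
        obtain ⟨x, rfl⟩ := hp₀ a
        obtain ⟨y, rfl⟩ := hp₀ b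
        rw [← map_mul, hs, hs, hs, hmul]
        linear_combination -hsq₀ (hval x) (hval y)
      map_zero' := by
        rw [← map_zero p₀, hs, hfix 0 (map_zero _), sub_self]
      map_add' := fun a b => by
        obtain ⟨x, rfl⟩ := hp₀ a
        obtain ⟨y, rfl⟩ := hp₀ b
        rw [← map_add, hs, hs, hs, hadd]
        abel
      commutes' := fun c => by
        show s (algebraMap k B₀ c) = algebraMap k (Univ k B₀) c
        rw [← p₀.commutes, hs, hδk, sub_zero] }
  refine Algebra.FormallySmooth.of_split (evalPres k B₀) sHom (AlgHom.ext fun b => ?_)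
  obtain ⟨x, rfl⟩ := hp₀ b
  show p₀ (s (p₀ x)) = p₀ x
  rw [hs, map_sub, hval, sub_zero]

end Groth.Agent.CotT43
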