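import Groth.Agent.CotT85.Basic

/-!
A rigid algebra: every infinitesimal datum on the kernel of a surjection onto it is the restriction of a derivation.
-/

set_option autoImplicit false

universe u

open TensorProduct

namespace Groth.Agent.CotT43

variable {k B₀ : Type u} [Field k] [CommRing B₀] [Algebra k B₀]

theorem rigid_extend (hrigid : Subsingleton (CotT.T1 (CotT.canon k B₀) B₀)) {P₀ : Type u} [CommRing P₀]
    [Algebra k P₀] (π : P₀ →ₐ[k] B₀) (hπ : Function.Surjective π) (φ : RingHom.ker π →+ B₀)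
    (hmul : ∀ (p : P₀) (r : RingHom.ker π), φ (p • r) = π p * φ r) :
    ∃ D : P₀ → B₀, (∀ p q, D (p + q) = D p + D q) ∧ (∀ p q, D (p * q) = π p * D q + π q * D p) ∧
      (∀ c : k, D (algebraMap k P₀ c) = 0) ∧ ∀ r : RingHom.ker π, D r = φ r := by
  classical
  let Q := CotT.canon k B₀
  let g : Q.toExtension.Ring →ₐ[k] P₀ :=
    (MvPolynomial.aeval fun b => Function.surjInv hπ b : MvPolynomial B₀ k →ₐ[k] P₀)
  have hg : ∀ r, π (g r) = algebraMap Q.toExtension.Ring B₀ r := by
    intro r
    rw [CotT.algebraMap_toExtension]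
    show π ((MvPolynomial.aeval fun b => Function.surjInv hπ b) r) = _
    rw [← AlgHom.comp_apply, MvPolynomial.comp_aeval]
    simp only [Function.surjInv_eq hπ]
    rfl
  have hker : ∀ r ∈ Q.toExtension.ker, g r ∈ RingHom.ker π := fun r hr => by
    rw [RingHom.mem_ker, hg]; exact hr
  let F : CotT.relMod Q →ₗ[Q.toExtension.Ring] B₀ :=
    { toFun := fun f => φ ⟨g (CotT.jmap Q f), hker _ (CotT.jmap_mem_ker Q f)⟩
      map_add' := fun f f' => by
        rw [← map_add]
        congr 1
        exact Subtype.ext (by simp)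
      map_smul' := fun r f => by
        rw [RingHom.id_apply, Algebra.smul_def, ← hg, ← hmul]
        congr 1
        exact Subtype.ext (by simp) }
  let c : CotT.L1 Q →ₗ[B₀] B₀ := LinearMap.liftBaseChange B₀ F
  have hc : c ∈ CotT.cocycles1 Q B₀ := by
    rw [LinearMap.mem_ker, CotT.d2Star_apply]
    refine Submodule.linearMap_qext _ ?_
    rw [LinearMap.comp_assoc, CotT.d2_comp_mkQ, LinearMap.zero_comp]
    refine TensorProduct.AlgebraTensorModule.ext fun b q => ?_
    have hq : CotT.jmap Q (q : CotT.relMod Q) = 0 := q.2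
    have : F q = 0 := by
      show φ ⟨g (CotT.jmap Q (q : CotT.relMod Q)), _⟩ = 0
      rw [← map_zero φ]
      congr 1
      exact Subtype.ext (by simp [hq])
    simp [c, this]
  obtain ⟨ψ, hψ⟩ : ∃ ψ, CotT.d1Star Q B₀ ψ = c := by
    have h0 : (Submodule.Quotient.mk ⟨c, hc⟩ : CotT.T1 Q B₀) = 0 := Subsingleton.elim _ _
    exact (Submodule.Quotient.mk_eq_zero _).1 h0
  let D' : Q.toExtension.Ring → B₀ := fun r => ψ ((1 : B₀) ⊗ₜ KaehlerDifferential.D k _ r)
  have hD'I : ∀ (r : Q.toExtension.Ring) (hr : r ∈ Q.toExtension.ker), D' r = φ ⟨g r, hker r hr⟩ := by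
    intro r hr
    obtain ⟨f, rfl⟩ := CotT85.exists_jmap_eq Q hr
    have h := LinearMap.congr_fun hψ ((1 : B₀) ⊗ₜ f)
    simp [c] at h
    exact h
  have hD'add : ∀ r r', D' (r + r') = D' r + D' r' := fun r r' => by simp [D', tmul_add]
  have hD'mul : ∀ r r', D' (r * r') = π (g r) * D' r' + π (g r') * D' r := fun r r' => by
    simp only [D', Derivation.leibniz, tmul_add, map_add, tmul_smul, ← algebraMap_smul B₀ r,
      ← algebraMap_smul B₀ r', map_smul, smul_eq_mul, hg]
  have hsec : ∀ p, π p = π (g (CotT85.rX Q (π p))) := fun p => by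
    rw [hg, CotT85.algebraMap_rX]; rfl
  have hmem : ∀ {p : P₀} {q : Q.toExtension.Ring}, π (g q) = π p → p - g q ∈ RingHom.ker π := by
    intro p q h
    rw [RingHom.mem_ker, map_sub, h, sub_self]
  let D : P₀ → B₀ := fun p => D' (CotT85.rX Q (π p)) + φ ⟨_, hmem (hsec p).symm⟩
  have huniq : ∀ (p : P₀) (q : Q.toExtension.Ring) (h : π (g q) = π p), D p = D' q + φ ⟨_, hmem h⟩ := by
    intro p q h
    set q₀ := CotT85.rX Q (π p)
    have hr : q₀ - q ∈ Q.toExtension.ker := by
      show algebraMap Q.toExtension.Ring B₀ (q₀ - q) = 0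
      rw [map_sub, ← hg, ← hg, h, ← hsec, sub_self]
    have h1 := hD'I _ hr
    have h2 := hD'add (q₀ - q) q
    rw [sub_add_cancel] at h2
    show D' q₀ + _ = _
    rw [h2, h1, add_right_comm, ← map_add, add_comm]
    congr 2
    exact Subtype.ext (by simp [q₀])
  refine ⟨D, fun p p' => ?_, fun p p' => ?_, fun a => ?_, fun r => ?_⟩
  · rw [huniq _ (CotT85.rX Q (π p) + CotT85.rX Q (π p')) (by rw [map_add, map_add, ← hsec, ← hsec, map_add])]
    show _ = (_ + _) + (_ + _)
    rw [hD'add, add_add_add_comm, ← map_add]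
    congr 2
    rw [← map_add φ]
    congr 1
    exact Subtype.ext (by simp only [Submodule.coe_add, map_add]; abel)
  · set q := CotT85.rX Q (π p) with hq
    set q' := CotT85.rX Q (π p') with hq'
    rw [huniq _ (q * q') (by rw [hq, hq', map_mul, map_mul, ← hsec, ← hsec, map_mul])]
    show _ = π p * (D' q' + _) + π p' * (D' q + _)
    rw [hD'mul]
    simp only [show π (g q) = π p from (hsec p).symm, show π (g q') = π p' from (hsec p').symm]
    rw [mul_add, mul_add, ← hmul, ← hmul, add_add_add_comm, ← map_add]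
    congr 1
    have e : (p - g q) * (p' - g q') ∈ RingHom.ker π := Ideal.mul_mem_right _ _ (hmem (hsec p).symm)
    have hz : φ ⟨_, e⟩ = 0 := by
      have h' := hmul (p - g q) ⟨p' - g q', hmem (hsec p').symm⟩
      rw [RingHom.mem_ker.1 (hmem (hsec p).symm), zero_mul] at h'
      rw [← h']
      congr 1
    rw [← sub_zero (φ (_ + _)), ← hz, ← map_sub]
    congr 1
    exact Subtype.ext (by simp; ring)
  · rw [huniq _ (algebraMap k _ a) (by rw [g.commutes])]
    simp only [D', Derivation.map_algebraMap, tmul_zero, map_zero, zero_add]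
    rw [← map_zero φ]
    congr 1
    exact Subtype.ext (by simp)
  · rw [huniq _ 0 (by simp [RingHom.mem_ker.1 r.2])]
    simp [D']

end Groth.Agent.CotT43
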