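import Groth.Agent.CotT43.SmoothAway
import Groth.Agent.CotT85.Dual
import Groth.Agent.CotT85.Compare

/-!
Smoothness away from `t` in terms of `T¹` being killed by a power of `t`.
-/

set_option autoImplicit false

universe u

open TensorProduct

namespace Groth.Agent.CotT43

variable {A B : Type u} [CommRing A] [CommRing B] [Algebra A B] {N : ℕ}

theorem formallySmooth_away_of_derivation (t : A) (π : MvPolynomial (Fin N) A →ₐ[A] B)
    (hπ : Function.Surjective π) {n : ℕ} (d : Fin N → MvPolynomial (Fin N) A) (hd : ∀ i, d i ∈ RingHom.ker π)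
    (hD : ∀ r ∈ RingHom.ker π, MvPolynomial.mkDerivation A d r - t ^ n • r ∈ RingHom.ker π ^ 2) :
    Algebra.FormallySmooth A (Localization.Away (algebraMap A B t)) := by
  classical
  let P := MvPolynomial (Fin N) A
  let Pt := Localization.Away (algebraMap A P t)
  let Bt := Localization.Away (algebraMap A B t)
  haveI : Algebra.FormallySmooth A Pt :=
    haveI : Algebra.FormallySmooth P Pt := Algebra.FormallySmooth.of_isLocalization (.powers (algebraMap A P t))
    Algebra.FormallySmooth.comp A P Pt
  let fP : P →ₐ[A] Bt := (IsScalarTower.toAlgHom A B Bt).comp π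
  have hu : IsUnit (fP (algebraMap A P t)) := by
    rw [AlgHom.commutes, IsScalarTower.algebraMap_apply A B Bt]
    exact IsLocalization.Away.algebraMap_isUnit _
  let f : Pt →ₐ[A] Bt := IsLocalization.Away.liftAlgHom (algebraMap A P t) hu
  have hf : ∀ p, f (algebraMap P Pt p) = algebraMap B Bt (π p) := fun p =>
    IsLocalization.Away.lift_eq (algebraMap A P t) (g := fP.toRingHom) hu p
  set K := RingHom.ker f.toRingHom with hK
  let Q := Pt ⧸ K ^ 2
  let q : P →ₐ[A] Q := (Ideal.Quotient.mkₐ A (K ^ 2)).comp (IsScalarTower.toAlgHom A P Pt)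
  have htQ : IsUnit (algebraMap A Q (t ^ n)) := by
    rw [map_pow, ← (Ideal.Quotient.mkₐ A (K ^ 2)).commutes, IsScalarTower.algebraMap_apply A P Pt]
    exact ((IsLocalization.Away.algebraMap_isUnit (algebraMap A P t)).map _).pow n
  set u : Q := ((htQ.unit⁻¹ : Qˣ) : Q)
  have hu1 : u * algebraMap A Q (t ^ n) = 1 := htQ.val_inv_mul
  have hqI : ∀ {i j}, i ∈ RingHom.ker π → j ∈ RingHom.ker π → q i * q j = 0 := by
    intro i j hi hj
    rw [← map_mul]
    refine Ideal.Quotient.eq_zero_iff_mem.2 ?_
    show algebraMap P Pt (i * j) ∈ K ^ 2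
    rw [map_mul, pow_two]
    refine Ideal.mul_mem_mul ?_ ?_
    · show f (algebraMap P Pt i) = 0
      rw [hf, RingHom.mem_ker.1 hi, map_zero]
    · show f (algebraMap P Pt j) = 0
      rw [hf, RingHom.mem_ker.1 hj, map_zero]
  let G : P →ₐ[A] Q := MvPolynomial.aeval fun i => q (MvPolynomial.X i) - u * q (d i)
  let D := MvPolynomial.mkDerivation A d
  have hDI : ∀ p, D p ∈ RingHom.ker π ∧ G p = q p - u * q (D p) := by
    intro p
    induction p using MvPolynomial.induction_on with
    | C c =>
      rw [show (MvPolynomial.C c : P) = algebraMap A P c from rfl, Derivation.map_algebraMap,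
        AlgHom.commutes, AlgHom.commutes]
      simp
    | add a b ha hb =>
      rw [map_add, map_add, ha.2, hb.2, map_add, map_add]
      exact ⟨add_mem ha.1 hb.1, by ring⟩
    | mul_X a i ha =>
      have hX : D (MvPolynomial.X i) = d i := MvPolynomial.mkDerivation_X ..
      rw [Derivation.leibniz, hX, smul_eq_mul, smul_eq_mul, map_mul, ha.2,
        show G (MvPolynomial.X i) = _ from MvPolynomial.aeval_X _ i]
      refine ⟨add_mem (Ideal.mul_mem_left _ _ (hd i)) (Ideal.mul_mem_left _ _ ha.1), ?_⟩
      rw [map_add, map_mul, map_mul, map_mul]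
      linear_combination (u * u) * hqI ha.1 (hd i)
  have hGI : ∀ r, π r = 0 → G r = 0 := by
    intro r hr
    have h0 : q (D r - t ^ n • r) = 0 := by
      have key : ∀ z ∈ RingHom.ker π * RingHom.ker π, q z = 0 := fun z hz => by
        induction hz using Submodule.mul_induction_on' with
        | mem_mul_mem i hi j hj => rw [map_mul, hqI hi hj]
        | add a _ b _ ha hb => rw [map_add, ha, hb, add_zero]
      exact key _ (pow_two (RingHom.ker π) ▸ hD r hr)
    rw [map_sub, map_smul, Algebra.smul_def, sub_eq_zero] at h0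
    rw [(hDI r).2, h0, ← mul_assoc, hu1, one_mul, sub_self]
  let sB : B →ₐ[A] Q := AlgHom.liftOfSurjective π hπ G hGI
  have hsB : ∀ p, sB (π p) = G p := fun p => AlgHom.liftOfSurjective_apply π hπ G hGI p
  have htu : IsUnit (sB (algebraMap A B t)) := by
    rw [AlgHom.commutes, ← (Ideal.Quotient.mkₐ A (K ^ 2)).commutes, IsScalarTower.algebraMap_apply A P Pt]
    exact (IsLocalization.Away.algebraMap_isUnit (algebraMap A P t)).map _
  let s : Bt →ₐ[A] Q := IsLocalization.Away.liftAlgHom (algebraMap A B t) htu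
  refine Algebra.FormallySmooth.of_split f s (IsLocalization.algHom_ext (.powers (algebraMap A B t)) ?_)
  refine AlgHom.ext fun b => ?_
  obtain ⟨p, rfl⟩ := hπ b
  show f.kerSquareLift (s (algebraMap B Bt (π p))) = algebraMap B Bt (π p)
  rw [show s (algebraMap B Bt (π p)) = sB (π p) from
    IsLocalization.Away.lift_eq (algebraMap A B t) (g := sB.toRingHom) htu _, hsB, (hDI p).2, map_sub, map_mul,
    show f.kerSquareLift (q (D p)) = f (algebraMap P Pt (D p)) from rfl, hf, RingHom.mem_ker.1 (hDI p).1, map_zero,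
    mul_zero, sub_zero, show f.kerSquareLift (q p) = f (algebraMap P Pt p) from rfl, hf]

theorem T1_smul_eq_zero_iff {σ : Type} [Finite σ] (P : Algebra.Presentation A B (Fin N) σ) (t : A) :
    (∃ n : ℕ, ∀ (M : Type u) [AddCommGroup M] [Module B M] [Module.Finite B M],
      ∀ x : CotT.T1 P M, (algebraMap A B t) ^ n • x = 0) ↔
    Algebra.FormallySmooth A (Localization.Away (algebraMap A B t)) := by
  classical
  let π : MvPolynomial (Fin N) A →ₐ[A] B := MvPolynomial.aeval P.val
  have hπ : Function.Surjective π := fun b => by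
    obtain ⟨r, hr⟩ := P.toExtension.algebraMap_surjective b
    exact ⟨r, by rw [CotT.algebraMap_toExtension] at hr; exact hr⟩
  have halg : ∀ r : P.toExtension.Ring, algebraMap P.toExtension.Ring B r = π r :=
    CotT.algebraMap_toExtension P
  have hker : ∀ r, r ∈ RingHom.ker π ↔ r ∈ P.toExtension.ker := fun r => by
    show π r = 0 ↔ algebraMap P.toExtension.Ring B r = 0
    rw [halg]
  have hfg : (RingHom.ker π).FG := by
    refine ⟨(Set.finite_range P.relation).toFinset, ?_⟩
    rw [Set.Finite.coe_toFinset]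
    exact P.span_range_relation_eq_ker.trans (Ideal.ext fun r => (hker r).symm)
  have hmk_eq : ∀ x y : P.toExtension.ker, (x : P.toExtension.Ring) - y ∈ P.toExtension.ker ^ 2 →
      Algebra.Extension.Cotangent.mk x = Algebra.Extension.Cotangent.mk y := fun x y h =>
    Algebra.Extension.Cotangent.ext (P.toExtension.ker.toCotangent_eq.2 h)
  have hI : P.toExtension.ker = RingHom.ker π := Ideal.ext fun x => (hker x).symm
  have hsqI : ∀ z, z ∈ P.toExtension.ker ^ 2 → z ∈ RingHom.ker π ^ 2 := fun z hz => by rw [hI] at hz; exact hz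
  have hsqI' : ∀ z, z ∈ RingHom.ker π ^ 2 → z ∈ P.toExtension.ker ^ 2 := fun z hz => by rw [hI]; exact hz
  have hcc : ∀ x : P.toExtension.ker, P.toExtension.cotangentComplex (Algebra.Extension.Cotangent.mk x) =
      (1 : B) ⊗ₜ KaehlerDifferential.D A P.toExtension.Ring x := fun x => by simp
  have hψD : ∀ (ψ : CotT.L0 P →ₗ[B] P.toExtension.Cotangent) (d : Fin N → MvPolynomial (Fin N) A)
      (hd : ∀ i, d i ∈ RingHom.ker π),
      (∀ i, ψ ((1 : B) ⊗ₜ KaehlerDifferential.D A P.toExtension.Ring (MvPolynomial.X i : MvPolynomial (Fin N) A)) =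
        Algebra.Extension.Cotangent.mk ⟨d i, (hker _).1 (hd i)⟩) →
      ∀ p, ∃ h : (MvPolynomial.mkDerivation A d p : MvPolynomial (Fin N) A) ∈ P.toExtension.ker,
        ψ ((1 : B) ⊗ₜ KaehlerDifferential.D A P.toExtension.Ring p) = Algebra.Extension.Cotangent.mk ⟨_, h⟩ := by
    intro ψ d hd hX p
    induction p using MvPolynomial.induction_on with
    | C c =>
      have e : KaehlerDifferential.D A P.toExtension.Ring (MvPolynomial.C c : MvPolynomial (Fin N) A) = 0 :=
        (KaehlerDifferential.D A P.toExtension.Ring).map_algebraMap c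
      have e' : MvPolynomial.mkDerivation A d (MvPolynomial.C c) = 0 :=
        (MvPolynomial.mkDerivation A d).map_algebraMap c
      refine ⟨(hker _).1 (e' ▸ zero_mem _), ?_⟩
      rw [e, tmul_zero, map_zero]
      exact ((congrArg _ (Subtype.ext e')).trans (map_zero _)).symm
    | add a b ha hb =>
      obtain ⟨h₁, e₁⟩ := ha
      obtain ⟨h₂, e₂⟩ := hb
      have e' : MvPolynomial.mkDerivation A d (a + b) =
          MvPolynomial.mkDerivation A d a + MvPolynomial.mkDerivation A d b := map_add _ a b
      refine ⟨(hker _).1 (e' ▸ (add_mem ((hker _).2 h₁) ((hker _).2 h₂))), ?_⟩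
      rw [show KaehlerDifferential.D A P.toExtension.Ring (a + b : MvPolynomial (Fin N) A) =
        KaehlerDifferential.D A P.toExtension.Ring a + KaehlerDifferential.D A P.toExtension.Ring b from map_add _ _ _,
        tmul_add, map_add, e₁, e₂, ← map_add]
      exact congrArg _ (Subtype.ext e'.symm)
    | mul_X a i ha =>
      obtain ⟨h₁, e₁⟩ := ha
      have e' : MvPolynomial.mkDerivation A d (a * MvPolynomial.X i) =
          a * d i + MvPolynomial.X i * MvPolynomial.mkDerivation A d a := by
        rw [Derivation.leibniz, MvPolynomial.mkDerivation_X, smul_eq_mul, smul_eq_mul]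
      refine ⟨(hker _).1 (e' ▸ (add_mem (Ideal.mul_mem_left _ _ (hd i))
        (Ideal.mul_mem_left _ _ ((hker _).2 h₁)))), ?_⟩
      rw [show KaehlerDifferential.D A P.toExtension.Ring (a * MvPolynomial.X i : MvPolynomial (Fin N) A) =
        (show P.toExtension.Ring from a) • KaehlerDifferential.D A P.toExtension.Ring (MvPolynomial.X i : MvPolynomial (Fin N) A) +
          (show P.toExtension.Ring from (MvPolynomial.X i : MvPolynomial (Fin N) A)) • KaehlerDifferential.D A P.toExtension.Ring a
          from Derivation.leibniz _ _ _,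
        tmul_add, tmul_smul, tmul_smul, map_add, LinearMap.map_smul_of_tower, LinearMap.map_smul_of_tower, hX i, e₁]
      rw [← map_smul, ← map_smul, ← map_add]
      exact congrArg _ (Subtype.ext e'.symm)
  constructor
  · rintro ⟨n, hn⟩
    haveI : Module.Finite B (CotT.L1 P) := Module.Finite.of_basis (CotT.L1basis P)
    haveI : Module.Finite B P.toExtension.Cotangent := Module.Finite.of_surjective _ (CotT85.toCot_surjective P)
    have h0 : CotT.homToT1 P P.toExtension.Cotangent (algebraMap A B t ^ n • LinearMap.id) = 0 := by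
      rw [map_smul]
      exact hn _ _
    rw [← LinearMap.mem_ker, CotT85.ker_homToT1] at h0
    obtain ⟨ψ, hψ⟩ := h0
    choose d hd using fun i => Algebra.Extension.Cotangent.mk_surjective
      (ψ ((1 : B) ⊗ₜ KaehlerDifferential.D A P.toExtension.Ring (MvPolynomial.X i : MvPolynomial (Fin N) A)))
    refine formallySmooth_away_of_derivation t π hπ (n := n) (fun i => (d i).1) (fun i => (hker _).2 (d i).2)
      fun r hr => ?_
    obtain ⟨h, e⟩ := hψD ψ (fun i => (d i).1) (fun i => (hker _).2 (d i).2) (fun i => (hd i).symm) r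
    have h1 := LinearMap.congr_fun hψ (Algebra.Extension.Cotangent.mk ⟨r, (hker _).1 hr⟩)
    rw [LinearMap.lcomp_apply', LinearMap.comp_apply, hcc, e, LinearMap.smul_apply, LinearMap.id_apply,
      ← map_pow, algebraMap_smul, ← LinearMap.map_smul_of_tower] at h1
    have h2 := P.toExtension.ker.toCotangent_eq.1 (congrArg Algebra.Extension.Cotangent.val h1)
    exact hsqI _ h2
  · intro hFS
    obtain ⟨n, D, hD, hDn⟩ := exists_derivation_smul t π hπ hfg
    refine ⟨n, fun M _ _ _ x => ?_⟩
    obtain ⟨φ, rfl⟩ := CotT85.homToT1_surjective P M x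
    rw [← map_smul, ← LinearMap.mem_ker, CotT85.ker_homToT1]
    let ψ : CotT.L0 P →ₗ[B] P.toExtension.Cotangent :=
      P.cotangentSpaceBasis.constr B fun i => Algebra.Extension.Cotangent.mk ⟨D (MvPolynomial.X i), (hker _).1 (hD _)⟩
    have hψX : ∀ i, ψ ((1 : B) ⊗ₜ KaehlerDifferential.D A P.toExtension.Ring (MvPolynomial.X i : MvPolynomial (Fin N) A)) =
        Algebra.Extension.Cotangent.mk ⟨D (MvPolynomial.X i), (hker _).1 (hD _)⟩ := fun i => by
      rw [show ((1 : B) ⊗ₜ KaehlerDifferential.D A P.toExtension.Ring (MvPolynomial.X i : MvPolynomial (Fin N) A) :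
        CotT.L0 P) = P.cotangentSpaceBasis i from (Algebra.Generators.cotangentSpaceBasis_apply ..).symm,
        Module.Basis.constr_basis]
    refine ⟨φ ∘ₗ ψ, ?_⟩
    refine LinearMap.ext fun z => ?_
    obtain ⟨⟨r, hr⟩, rfl⟩ := Algebra.Extension.Cotangent.mk_surjective z
    obtain ⟨h, e⟩ := hψD ψ (fun i => D (MvPolynomial.X i)) (fun i => hD _) hψX r
    have hDeq : MvPolynomial.mkDerivation A (fun i => D (MvPolynomial.X i)) = D :=
      MvPolynomial.derivation_ext fun i => MvPolynomial.mkDerivation_X ..
    rw [LinearMap.lcomp_apply', LinearMap.comp_apply, hcc, LinearMap.comp_apply, e, LinearMap.smul_apply,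
      ← map_smul, ← map_pow, algebraMap_smul, ← LinearMap.map_smul_of_tower]
    congr 1
    refine hmk_eq _ _ ?_
    refine hsqI' _ ?_
    show MvPolynomial.mkDerivation A (fun i => D (MvPolynomial.X i)) r -
      t ^ n • (show MvPolynomial (Fin N) A from r) ∈ _
    rw [hDeq]
    exact hDn r ((hker r).2 hr)

end Groth.Agent.CotT43
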